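import Groth.Agent.BlowReg.GG
import Groth.Agent.KoszBlow.Scheme
import Mathlib

/-!
The two charts of the blow-up in an ideal with two generators.
-/

set_option autoImplicit false
set_option backward.isDefEq.respectTransparency false
set_option linter.style.haveILetI false
set_option maxSynthPendingDepth 4

universe u

open CategoryTheory CategoryTheory.Limits AlgebraicGeometry TopologicalSpace Opposite HomogeneousLocalization

noncomputable section

namespace Groth.Agent.BlowReg

open BlowUpExist KoszBlow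

variable {A : Type u} [CommRing A] (a b : A)

theorem pow_le : ∀ (n p q : ℕ), p + q = n →
    (Ideal.span {a, b}) ^ n ≤ Ideal.span {a} ^ p * (Ideal.span {a, b}) ^ q ⊔
      Ideal.span {b} ^ q * (Ideal.span {a, b}) ^ p := by
  intro n
  induction n with
  | zero =>
    intro p q h
    obtain ⟨rfl, rfl⟩ := Nat.add_eq_zero_iff.1 h
    simp
  | succ n ih =>
    intro p q h
    set I := Ideal.span {a, b}
    have hI : I = Ideal.span {a} ⊔ Ideal.span {b} := Ideal.span_insert a {b}
    have ha : Ideal.span {a} ≤ I := hI ▸ le_sup_left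
    have hb : Ideal.span {b} ≤ I := hI ▸ le_sup_right
    rw [pow_succ]
    nth_rewrite 2 [hI]
    rw [Ideal.mul_sup]
    refine sup_le ?_ ?_
    · rcases Nat.eq_zero_or_pos p with rfl | hp
      · refine le_sup_left.trans' ?_
        rw [pow_zero, one_mul, show q = n + 1 by omega, pow_succ]
        exact Ideal.mul_mono_right ha
      · obtain ⟨p, rfl⟩ : ∃ p', p = p' + 1 := ⟨p - 1, by omega⟩
        refine (Ideal.mul_mono_left (ih p q (by omega))).trans ?_
        rw [Ideal.sup_mul]
        refine sup_le (le_sup_left.trans' ?_) (le_sup_right.trans' ?_)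
        · rw [mul_right_comm, ← pow_succ]
        · rw [mul_assoc, pow_succ I p]
          exact Ideal.mul_mono_right (Ideal.mul_mono_right ha)
    · rcases Nat.eq_zero_or_pos q with rfl | hq
      · refine le_sup_right.trans' ?_
        rw [pow_zero, one_mul, show p = n + 1 by omega, pow_succ]
        exact Ideal.mul_mono_right hb
      · obtain ⟨q, rfl⟩ : ∃ q', q = q' + 1 := ⟨q - 1, by omega⟩
        refine (Ideal.mul_mono_left (ih p q (by omega))).trans ?_
        rw [Ideal.sup_mul]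
        refine sup_le (le_sup_left.trans' ?_) (le_sup_right.trans' ?_)
        · rw [mul_assoc, pow_succ I q]
          exact Ideal.mul_mono_right (Ideal.mul_mono_right hb)
        · rw [mul_right_comm, ← pow_succ]

variable (I : Ideal A) (hI : I = Ideal.span {a, b})

local notation "𝒜" => Rees.deg (reesAlgebra I)

theorem sections_split (ha : a ∈ I) (hb : b ∈ I) (z : HomogeneousLocalization.Away 𝒜 (tt I a ha * tt I b hb))
    (hI : I = Ideal.span {a, b}) :
    ∃ f g, awayMap 𝒜 (tt_mem I b hb) rfl f + awayMap 𝒜 (tt_mem I a ha) (mul_comm (tt I a ha) (tt I b hb)) g = z := by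
  have hd : tt I a ha * tt I b hb ∈ 𝒜 2 := SetLike.mul_mem_graded (tt_mem I a ha) (tt_mem I b hb)
  obtain ⟨n, x, hx, rfl⟩ := Away.mk_surjective 𝒜 hd z
  have hx' : x ∈ 𝒜 (n + n) := by simpa [mul_two] using hx
  obtain ⟨c, hc, rfl⟩ : ∃ c hc, x = mono I (n + n) c hc := ⟨_, _, eq_mono_of_mem I hx'⟩
  have hc' : c ∈ Ideal.span {a} ^ n * I ^ n ⊔ Ideal.span {b} ^ n * I ^ n := by
    subst hI
    exact pow_le a b (n + n) n n rfl hc
  rw [Ideal.span_singleton_pow, Ideal.span_singleton_pow] at hc'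
  obtain ⟨_, h1, _, h2, rfl⟩ := Submodule.mem_sup.1 hc'
  obtain ⟨u', hu, rfl⟩ := Ideal.mem_span_singleton_mul.1 h1
  obtain ⟨v', hv, rfl⟩ := Ideal.mem_span_singleton_mul.1 h2
  refine ⟨Away.mk 𝒜 (tt_mem I a ha) n (mono I n v' hv) (by simpa using mono_mem I n v' hv),
    Away.mk 𝒜 (tt_mem I b hb) n (mono I n u' hu) (by simpa using mono_mem I n u' hu), ?_⟩
  refine HomogeneousLocalization.val_injective _ ?_
  rw [HomogeneousLocalization.val_add, awayMap_mk, awayMap_mk, Away.val_mk, Away.val_mk, Away.val_mk,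
    Localization.add_mk_self]
  congr 1
  refine Subtype.ext ?_
  simp only [tt_pow, Subalgebra.coe_add, Subalgebra.coe_mul, mono, Polynomial.monomial_mul_monomial]
  rw [← map_add]
  congr 1
  ring

include hI in
theorem subsingleton_h1_blowUp {X : Scheme.{u}} (π : X ⟶ Spec (CommRingCat.of A))
    (hb : BlowUp.IsBlowUp π (sheafOf I)) (F : X.Modules) [F.IsQuasicoherent]
    (hgg : Curv2.IsGloballyGenerated F) : Subsingleton (Coh.HH X F 1) := by
  have h0 := isBlowUp_affine I
  obtain ⟨k, hk, -⟩ := h0.2 _ π hb.1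
  obtain ⟨l, hl, -⟩ := hb.2 _ (structMap I) h0.1
  haveI : IsIso k := ⟨l, (hb.2 _ _ hb.1).unique (by rw [Category.assoc, hl, hk]) (Category.id_comp _),
    (h0.2 _ _ h0.1).unique (by rw [Category.assoc, hk, hl]) (Category.id_comp _)⟩
  have haI : a ∈ I := hI ▸ Ideal.subset_span (by simp)
  have hbI : b ∈ I := hI ▸ Ideal.subset_span (by simp)
  let ta := tt I a haI
  let tb := tt I b hbI
  have hgens := irrelevant_le_gens (I := I) ![a, b] (by rw [hI]; congr 1; simp [Set.pair_comm])
  have hcov : Proj.basicOpen 𝒜 ta ⊔ Proj.basicOpen 𝒜 tb = ⊤ := by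
    refine top_le_iff.1 ((Proj.iSup_basicOpen_eq_top 𝒜 _ hgens).ge.trans (iSup_le fun j => ?_))
    fin_cases j
    · exact le_sup_left
    · exact le_sup_right
  have hd : ta * tb ∈ 𝒜 2 := SetLike.mul_mem_graded (tt_mem I a haI) (tt_mem I b hbI)
  refine subsingleton_h1_of_two hgg (U := k ⁻¹ᵁ Proj.basicOpen 𝒜 ta) (V := k ⁻¹ᵁ Proj.basicOpen 𝒜 tb)
    ((Proj.isAffineOpen_basicOpen 𝒜 ta (tt_mem I a haI) one_pos).preimage_of_isIso k)
    ((Proj.isAffineOpen_basicOpen 𝒜 tb (tt_mem I b hbI) one_pos).preimage_of_isIso k) ?_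
    ((Scheme.Hom.preimage_sup k).symm.trans (by rw [hcov]; rfl)) fun c => ?_
  · show IsAffineOpen (k ⁻¹ᵁ (Proj.basicOpen 𝒜 ta ⊓ Proj.basicOpen 𝒜 tb))
    rw [← Proj.basicOpen_mul]
    exact (Proj.isAffineOpen_basicOpen 𝒜 (ta * tb) hd two_pos).preimage_of_isIso k
  · have key : ∀ (W : (Proj 𝒜).Opens) (hW : W = Proj.basicOpen 𝒜 (ta * tb)) (hWa : W ≤ Proj.basicOpen 𝒜 ta)
        (hWb : W ≤ Proj.basicOpen 𝒜 tb) (c : Γ(X, k ⁻¹ᵁ W)),
        ∃ (f : Γ(X, k ⁻¹ᵁ Proj.basicOpen 𝒜 ta)) (g : Γ(X, k ⁻¹ᵁ Proj.basicOpen 𝒜 tb)),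
          X.presheaf.map (homOfLE (k.preimage_mono hWa)).op f +
            X.presheaf.map (homOfLE (k.preimage_mono hWb)).op g = c := by
      rintro W rfl hWa hWb c
      obtain ⟨e, rfl⟩ := (ConcreteCategory.bijective_of_isIso (k.app (Proj.basicOpen 𝒜 (ta * tb)))).2 c
      obtain ⟨z, rfl⟩ := (ConcreteCategory.bijective_of_isIso
        (Proj.basicOpenIsoAway 𝒜 (ta * tb) hd two_pos).hom).2 e
      obtain ⟨f, g, hfg⟩ := sections_split a b I haI hbI z hI
      refine ⟨k.app _ (Proj.awayToSection 𝒜 ta f), k.app _ (Proj.awayToSection 𝒜 tb g), ?_⟩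
      have hf := ConcreteCategory.congr_hom (Proj.awayMap_awayToSection 𝒜 (f := ta) (g := tb) (x := ta * tb)
        (tt_mem I b hbI) rfl) f
      have hg := ConcreteCategory.congr_hom (Proj.awayMap_awayToSection 𝒜 (f := tb) (g := ta) (x := ta * tb)
        (tt_mem I a haI) (mul_comm ta tb)) g
      rw [← hfg]
      show _ = k.app _ (Proj.awayToSection 𝒜 (ta * tb) (_ + _))
      rw [map_add, map_add]
      congr 1
      · refine Eq.trans ?_ (congrArg (k.app _) hf).symm
        exact (ConcreteCategory.congr_hom (k.naturality (homOfLE hWa).op) _).symm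
      · refine Eq.trans ?_ (congrArg (k.app _) hg).symm
        exact (ConcreteCategory.congr_hom (k.naturality (homOfLE hWb).op) _).symm
    exact key (Proj.basicOpen 𝒜 ta ⊓ Proj.basicOpen 𝒜 tb) (Proj.basicOpen_mul 𝒜 ta tb).symm inf_le_left inf_le_right c

end Groth.Agent.BlowReg
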