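import Groth.Agent.BlowExc.Smooth
import Groth.Agent.GeomProp.SmoothReg
import Groth.Agent.SerreReg.Regular
import Groth.Agent.SerreReg.MiracleFinite
import Groth.Agent.RegLoc.Order
import Mathlib

/-!
# The blow-up of a regular local ring in its closed point is regular and irreducible
-/

set_option autoImplicit false
set_option linter.style.haveILetI false
set_option maxSynthPendingDepth 4
set_option backward.isDefEq.respectTransparency false
universe u

open CategoryTheory AlgebraicGeometry Limits TopologicalSpace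

namespace Groth.Agent.BlowReg

open BlowUpExist KoszBlow
open IsLocalRing (maximalIdeal)

/-- lifting regularity through a regular element of a prime -/
theorem isRegularLocalRing_atPrime_of_quot {S : Type u} [CommRing S] [IsNoetherianRing S] (x : S)
    (hx : IsSMulRegular S x) [IsRegularRing (S ⧸ Ideal.span {x})] (M : Ideal S) [M.IsPrime] (hxM : x ∈ M) :
    IsRegularLocalRing (Localization.AtPrime M) := by
  let π := Ideal.Quotient.mk (Ideal.span {x})
  have hker : RingHom.ker π = Ideal.span {x} := Ideal.mk_ker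
  have hπ : Function.Surjective π := Ideal.Quotient.mk_surjective
  have hk : RingHom.ker π ≤ M := by rw [hker, Ideal.span_le]; simpa using hxM
  let m := M.map π
  haveI : m.IsPrime := Ideal.map_isPrime_of_surjective hπ hk
  have hc : M = m.comap π := by
    rw [Ideal.comap_map_of_surjective π hπ]
    exact (sup_eq_left.mpr hk).symm
  let φ := Localization.localRingHom M m π hc
  have hφ : Function.Surjective φ := fun z => by
    obtain ⟨a, s, rfl⟩ := IsLocalization.exists_mk'_eq m.primeCompl z
    obtain ⟨a, rfl⟩ := hπ a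
    obtain ⟨t, ht⟩ := hπ s.1
    have htM : t ∈ M.primeCompl := fun h => s.2 (ht ▸ Ideal.mem_map_of_mem π h)
    refine ⟨IsLocalization.mk' _ a ⟨t, htM⟩, ?_⟩
    rw [Localization.localRingHom_mk']
    exact congrArg _ (Subtype.ext ht)
  have hkφ : RingHom.ker φ = Ideal.span {algebraMap S (Localization.AtPrime M) x} := by
    refine le_antisymm (fun z hz => ?_) ?_
    · obtain ⟨f, s, rfl⟩ := IsLocalization.exists_mk'_eq M.primeCompl z
      rw [RingHom.mem_ker, Localization.localRingHom_mk', IsLocalization.mk'_eq_zero_iff] at hz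
      obtain ⟨c, hc'⟩ := hz
      obtain ⟨t, ht⟩ := hπ c.1
      have htM : t ∈ M.primeCompl := fun h => c.2 (ht ▸ Ideal.mem_map_of_mem π h)
      have : t * f ∈ RingHom.ker π := by rw [RingHom.mem_ker, map_mul, ht]; exact hc'
      rw [hker] at this
      refine (Ideal.mul_unit_mem_iff_mem _ (IsLocalization.map_units _ (⟨t, htM⟩ : M.primeCompl))).mp ?_
      refine (Ideal.mul_unit_mem_iff_mem _ (IsLocalization.map_units _ s)).mp ?_
      rw [mul_right_comm, IsLocalization.mk'_spec, ← map_mul, mul_comm, ← Set.image_singleton, ← Ideal.map_span]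
      exact Ideal.mem_map_of_mem _ this
    · rw [Ideal.span_le, Set.singleton_subset_iff, SetLike.mem_coe, RingHom.mem_ker,
        Localization.localRingHom_to_map]
      have : π x = 0 := by rw [← RingHom.mem_ker, hker]; exact Ideal.mem_span_singleton_self x
      rw [this, map_zero]
  haveI : IsRegularLocalRing (Localization.AtPrime m) := IsRegularRing.isRegularLocalRing_localization m
  haveI : IsRegularLocalRing (Localization.AtPrime M ⧸ Ideal.span {algebraMap S (Localization.AtPrime M) x}) :=
    IsRegularLocalRing.of_ringEquiv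
      (((Ideal.quotEquivOfEq hkφ.symm).trans (RingHom.quotientKerEquivOfSurjective hφ)).symm)
  refine Groth.Agent.SerreReg.isRegularLocalRing_of_quot (x := algebraMap S (Localization.AtPrime M) x) ?_ ?_
  · rw [← Localization.AtPrime.map_eq_maximalIdeal]; exact Ideal.mem_map_of_mem _ hxM
  · exact IsSMulRegular.of_flat hx

theorem mem_support_sheafOf {A : Type u} [CommRing A] (I : Ideal A) (q : PrimeSpectrum A) :
    (q : Spec (CommRingCat.of A)) ∈ (sheafOf I).support ↔ I ≤ q.asIdeal := by
  rw [← BlowExc.ker_specMap_mk I]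
  haveI : IsClosedImmersion (Spec.map (CommRingCat.ofHom (Ideal.Quotient.mk I))) :=
    IsClosedImmersion.spec_of_surjective _ Ideal.Quotient.mk_surjective
  rw [← SetLike.mem_coe, Scheme.Hom.support_ker,
    (Spec.map (CommRingCat.ofHom (Ideal.Quotient.mk I))).isClosedEmbedding.isClosed_range.closure_eq]
  show q ∈ Set.range (PrimeSpectrum.comap (Ideal.Quotient.mk I)) ↔ _
  rw [range_comap_of_surjective _ _ Ideal.Quotient.mk_surjective, PrimeSpectrum.mem_zeroLocus,
    SetLike.coe_subset_coe, Ideal.mk_ker]

variable (A : Type u) [CommRing A] [IsRegularLocalRing A] {X : Scheme.{u}} (b : X ⟶ Spec (CommRingCat.of A))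
  (hb : BlowUp.IsBlowUp b (sheafOf (maximalIdeal A)))

include hb

/-- regularity -/
theorem isRegularLocalRing_stalk (x : X) : IsRegularLocalRing (X.presheaf.stalk x) := by
  let m := maximalIdeal A
  by_cases hx : b x ∈ (sheafOf m).support
  · have hm : m ≤ (b x).asIdeal := (mem_support_sheafOf m (b x)).1 hx
    obtain ⟨rs, hlen, hreg, hspan⟩ := SerreReg.exists_regular_rsop _ A
      (IsRegularLocalRing.spanFinrank_maximalIdeal (R := A)).symm
    let a : Fin rs.length → A := rs.get
    have ha : Wiebe.Acyclic a := KoszulLib.acyclic_of_isWeaklyRegular' (by rw [List.ofFn_get]; exact hreg)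
    have hI : m = Ideal.span (Set.range a) := by
      rw [Set.range_list_get]; exact hspan.symm
    have h0 := isBlowUp_affine m
    obtain ⟨k, hk, -⟩ := h0.2 _ b hb.1
    obtain ⟨l, hl, -⟩ := hb.2 _ (structMap m) h0.1
    haveI : IsIso l := ⟨k, (h0.2 _ _ h0.1).unique (by rw [Category.assoc, hk, hl]) (Category.id_comp _),
      (hb.2 _ _ hb.1).unique (by rw [Category.assoc, hl, hk]) (Category.id_comp _)⟩
    obtain ⟨p', hp'⟩ := l.surjective x
    let 𝒰 := (Proj.affineOpenCoverOfIrrelevantLESpan (Rees.deg (reesAlgebra m))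
      (fun j : Fin rs.length => tt m (a j) (hI ▸ Ideal.subset_span ⟨j, rfl⟩)) (m := fun _ => 1)
      (fun j => tt_mem m _ _) (fun _ => one_pos) (irrelevant_le_gens a hI)).openCover
    obtain ⟨j, q, hq⟩ : ∃ (j : Fin rs.length) (q : _), chart m (a j) (hI ▸ Ideal.subset_span ⟨j, rfl⟩) q = p' :=
      ⟨𝒰.idx p', 𝒰.covers p'⟩
    obtain ⟨n, hn⟩ : ∃ n, rs.length = n + 1 := ⟨rs.length - 1, by have := j.2; omega⟩
    let a' : Fin (n + 1) → A := a ∘ Fin.cast hn.symm
    have hI' : m = Ideal.span (Set.range a') := by
      rw [hI]; exact congrArg Ideal.span ((finCongr hn.symm).surjective.range_comp a).symm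
    have ha' : Wiebe.Acyclic a' := by
      have h : ∀ (k : ℕ) (e : k = rs.length), Wiebe.Acyclic (a ∘ Fin.cast e) := by rintro k rfl; exact ha
      exact h _ _
    let g := fromA m (a j) (hI ▸ Ideal.subset_span ⟨j, rfl⟩) (a j)
    let K := Ideal.span {g}
    have hsm := BlowExc.smooth_quotientMap' a' hI' ha' (Fin.cast hn j)
    change (Ideal.quotientMap K (fromA m (a j) _) (BlowExc.le_comap_fromA (a j) _)).Smooth at hsm
    have hnR : IsNoetherianRing (HomogeneousLocalization.Away (Rees.deg (reesAlgebra m))
        (tt m (a j) (hI ▸ Ideal.subset_span ⟨j, rfl⟩))) := by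
      let σ := Equiv.swap 0 (Fin.cast hn j)
      have hI'' : m = Ideal.span (Set.range (a' ∘ σ)) :=
        hI'.trans (congrArg Ideal.span (σ.surjective.range_comp a').symm)
      have key : ∀ (c : A) (hc : c ∈ m), c = (a' ∘ σ) 0 →
          IsNoetherianRing (HomogeneousLocalization.Away (Rees.deg (reesAlgebra m)) (tt m c hc)) := by
        rintro c hc rfl
        exact isNoetherianRing_of_surjective _ _ _ (pres_surjective (a' ∘ σ) hI'')
      exact key _ _ (by simp [σ, a'])
    haveI : IsRegularRing (_ ⧸ K) := by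
      letI := (Ideal.quotientMap K (fromA m (a j) _) (BlowExc.le_comap_fromA (a j) _)).toAlgebra
      haveI : Algebra.Smooth (A ⧸ m) (_ ⧸ K) := hsm
      letI := Ideal.Quotient.field m
      exact GeomProp.isRegularRing_of_smooth (A ⧸ m) _
    have hgq : g ∈ q.asIdeal := by
      have h1 : b x = Spec.map (CommRingCat.ofHom (fromA m (a j) (hI ▸ Ideal.subset_span ⟨j, rfl⟩))) q := by
        rw [← hp', ← hq, ← Scheme.Hom.comp_apply, ← Scheme.Hom.comp_apply, hl, chart_structMap]
      rw [h1] at hm
      exact hm (hI ▸ Ideal.subset_span ⟨j, rfl⟩)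
    haveI := isRegularLocalRing_atPrime_of_quot g
      (isSMulRegular_iff_mem_nonZeroSMulDivisors.mpr (fun y hy => (fromA_mem_nonZeroDivisors m (a j) _).1 y hy)) q.asIdeal hgq
    let w := chart m (a j) (hI ▸ Ideal.subset_span ⟨j, rfl⟩) ≫ l
    have hw : w q = x := by
      show (chart m (a j) _ ≫ l) q = x
      rw [Scheme.Hom.comp_apply, hq, hp']
    rw [← hw]
    exact IsRegularLocalRing.of_ringEquiv
      ((StructureSheaf.stalkIso _ q).toRingEquiv.trans (asIso (w.stalkMap q)).symm.commRingCatIsoToRingEquiv)
  · haveI := BlowUpLib.isIso_stalkMap hb hx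
    haveI := SerreReg.isRegularRing_of_isRegularLocalRing A
    haveI := IsRegularRing.isRegularLocalRing_localization (b x).asIdeal
    exact IsRegularLocalRing.of_ringEquiv
      ((StructureSheaf.stalkIso _ (b x)).toRingEquiv.trans (asIso (b.stalkMap x)).commRingCatIsoToRingEquiv)

/-- irreducibility -/
theorem irreducibleSpace (hA : maximalIdeal A ≠ ⊥) : IrreducibleSpace X := by
  haveI := RegLoc.isDomain A
  have hbij := BlowUpLib.bijOn_maximalPts hb
  let η : Spec (CommRingCat.of A) := (⟨⊥, Ideal.isPrime_bot⟩ : PrimeSpectrum A)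
  have hη : ∀ x : Spec (CommRingCat.of A), η ⤳ x := fun x =>
    (PrimeSpectrum.le_iff_specializes η x).1 bot_le
  have hηmax : η ∈ {x : Spec (CommRingCat.of A) | (∀ y, y ⤳ x → y = x) ∧ x ∉ (sheafOf (maximalIdeal A)).support} :=
    ⟨fun y hy => le_antisymm (α := PrimeSpectrum A) ((PrimeSpectrum.le_iff_specializes (R := A) y η).2 hy)
      (bot_le (α := Ideal A)),
      fun h => hA (le_bot_iff.1 ((mem_support_sheafOf _ η).1 h))⟩
  obtain ⟨ξ, hξ, -⟩ := hbij.surjOn hηmax
  have huniq : ∀ z : X, (∀ y, y ⤳ z → y = z) → z = ξ := fun z hz => by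
    refine hbij.injOn hz hξ ?_
    exact ((hbij.mapsTo hz).1 _ (hη _)).symm.trans ((hbij.mapsTo hξ).1 _ (hη _))
  have hsp : ∀ x : X, ξ ⤳ x := fun x => by
    let Z := irreducibleComponent x
    obtain ⟨z, hz⟩ := QuasiSober.sober (isIrreducible_irreducibleComponent (x := x)) isClosed_irreducibleComponent
    have hzmax : ∀ y, y ⤳ z → y = z := fun y hy => by
      have h1 : closure {z} ⊆ closure {y} := closure_minimal (Set.singleton_subset_iff.2 hy.mem_closure) isClosed_closure
      rw [hz.def] at h1
      have h2 := ((irreducibleComponent_mem_irreducibleComponents x).2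
        isIrreducible_singleton.closure h1)
      have h3 : closure {y} = closure {z} := by rw [hz.def]; exact le_antisymm h2 h1
      exact (IsGenericPoint.eq (S := closure {z}) h3 rfl)
    rw [← huniq z hzmax]
    exact hz.specializes mem_irreducibleComponent
  exact { isPreirreducible_univ := by
            have h : (Set.univ : Set X) = closure {ξ} :=
              (Set.eq_univ_of_forall fun x => (hsp x).mem_closure).symm
            rw [h]; exact isIrreducible_singleton.closure.isPreirreducible
          toNonempty := ⟨ξ⟩ }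

end Groth.Agent.BlowReg
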