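import Groth.Agent.TMul.GlobGen
import Groth.Agent.SiteCoh.Basic
import Groth.Agent.SiteCoh.Terminal
import Groth.Agent.CohQC.Bound
import Mathlib

/-!
Mayer–Vietoris in degree one and sections of globally generated quasi-coherent modules over affines.
-/

set_option autoImplicit false
set_option backward.isDefEq.respectTransparency false
set_option linter.style.haveILetI false

universe u

open CategoryTheory CategoryTheory.Limits AlgebraicGeometry TopologicalSpace Opposite Abelian
open Groth.Agent.QC (res res_res res_self res_smul app_res)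
open TMul (homOf val val_homOf)

noncomputable section

namespace Groth.Agent.BlowReg

theorem hu_one_sup {X : TopCat.{u}} (F : CohTop.Ab X) (U V : Opens X)
    (h12 : ∀ s : F.obj.obj (op (U ⊓ V)), ∃ (a : F.obj.obj (op U)) (b : F.obj.obj (op V)),
      F.obj.map (homOfLE inf_le_left).op a + F.obj.map (homOfLE inf_le_right).op b = s)
    (hU : Subsingleton (CohSite.HU F 1 U)) (hV : Subsingleton (CohSite.HU F 1 V)) :
    Subsingleton (CohSite.HU F 1 (U ⊔ V)) := by
  let S := _root_.Opens.mayerVietorisSquare U V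
  have hS := S.shortComplex_shortExact
  have h2 : Subsingleton (Ext S.shortComplex.X₂ F 1) :=
    haveI : Subsingleton (Ext ((presheafToSheaf (Opens.grothendieckTopology X) AddCommGrpCat.{u}).obj
      (yoneda.obj S.X₂ ⋙ AddCommGrpCat.free)) F 1) := hU
    haveI : Subsingleton (Ext ((presheafToSheaf (Opens.grothendieckTopology X) AddCommGrpCat.{u}).obj
      (yoneda.obj S.X₃ ⋙ AddCommGrpCat.free)) F 1) := hV
    Ext.biprodAddEquiv.toEquiv.subsingleton
  refine subsingleton_of_forall_eq 0 fun x => ?_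
  obtain ⟨x₁, rfl⟩ := Ext.contravariant_sequence_exact₃ hS F
    (show Ext S.shortComplex.X₃ F 1 from x) (Subsingleton.elim _ _) (n₀ := 0) (by omega)
  obtain ⟨φ, rfl⟩ := (Ext.mk₀_bijective _ _).2 x₁
  obtain ⟨a, b, hab⟩ := h12 (SiteCoh.secEquiv (U ⊓ V) F φ)
  let ψ : S.shortComplex.X₂ ⟶ F :=
    biprod.desc ((SiteCoh.secEquiv U F).symm a) (-((SiteCoh.secEquiv V F).symm b))
  have hφ : S.shortComplex.f ≫ ψ = φ := by
    refine (biprod.lift_desc).trans ?_
    rw [Preadditive.neg_comp, Preadditive.comp_neg, neg_neg]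
    apply (SiteCoh.secEquiv (U ⊓ V) F).injective
    refine (map_add (SiteCoh.secEquiv (U ⊓ V) F)
      (CohCx.freeSheafMap (Opens.grothendieckTopology X) (homOfLE inf_le_left : U ⊓ V ⟶ U) ≫
        (SiteCoh.secEquiv U F).symm a)
      (CohCx.freeSheafMap (Opens.grothendieckTopology X) (homOfLE inf_le_right : U ⊓ V ⟶ V) ≫
        (SiteCoh.secEquiv V F).symm b)).trans ?_
    rw [SiteCoh.secEquiv_freeSheafMap, SiteCoh.secEquiv_freeSheafMap, AddEquiv.apply_symm_apply,
      AddEquiv.apply_symm_apply, hab]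
  rw [← hφ, ← Ext.mk₀_comp_mk₀]
  rw [← Ext.comp_assoc hS.extClass (Ext.mk₀ S.shortComplex.f) (Ext.mk₀ ψ) (add_zero 1) (zero_add 0) (by omega)]
  rw [hS.extClass_comp, Ext.zero_comp]

variable {X : Scheme.{u}}

/-- sections of a globally generated quasi-coherent module over an affine open -/
theorem genOn_of_gg {F : X.Modules} [F.IsQuasicoherent] (hgg : Curv2.IsGloballyGenerated F) {W : X.Opens}
    (hW : IsAffineOpen W) : TMul.GenOn F W := by
  obtain ⟨κ, p, hp⟩ := hgg
  let S : QC.Sub F := QC.genSub (D := ⊤) (Set.univ : Set Γ(F, ⊤))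
  let π := cokernel.π S.ι
  have hg : ∀ t : Γ(F, ⊤), homOf t ≫ π = 0 := fun t => by
    refine TMul.hom_ext_val ?_
    obtain ⟨u, hu⟩ := (S.range_ι_app ⊤ t).2 (QC.mem_genSub_of_mem (Set.mem_univ t))
    rw [TMul.val_comp, val_homOf, res_self, ← hu]
    exact congrArg (fun q : S.toModules ⟶ cokernel S.ι => q.app ⊤ u) (cokernel.condition S.ι)
  have hπ : π = 0 := (cancel_epi p).1 (Sigma.hom_ext _ _ fun i => by
    rw [comp_zero, comp_zero]
    let g : Coh.structureModule X ⟶ F := Sigma.ι (fun _ : κ => SheafOfModules.unit X.ringCatSheaf) i ≫ p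
    have hg' : g = homOf (val g ⊤) := TMul.hom_ext_val ((val_homOf _ _).trans (res_self _ _ _)).symm
    refine (Category.assoc _ _ _).symm.trans ?_
    show g ≫ π = 0
    rw [hg']
    exact hg _)
  haveI : Epi S.ι := Preadditive.epi_of_cokernel_zero hπ
  haveI : IsIso S.ι := isIso_of_mono_of_epi _
  refine eq_top_iff.2 fun s _ => ?_
  obtain ⟨u, hu⟩ := (ConcreteCategory.bijective_of_isIso (S.ι.app W)).2 s
  have h := (QC.mem_genSub_iff hW le_top (Set.univ : Set Γ(F, ⊤)) s).1 ((S.range_ι_app W s).1 ⟨u, hu⟩)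
  rwa [Set.image_univ] at h

/-- `H¹` of a globally generated quasi-coherent module on a scheme covered by two affine opens whose ring on
the overlap is the sum of the two rings of sections. -/
theorem subsingleton_h1_of_two {F : X.Modules} [F.IsQuasicoherent] (hgg : Curv2.IsGloballyGenerated F)
    {U V : X.Opens} (hU : IsAffineOpen U) (hV : IsAffineOpen V) (hUV : IsAffineOpen (U ⊓ V)) (hcov : U ⊔ V = ⊤)
    (hr : ∀ c : Γ(X, U ⊓ V), ∃ (f : Γ(X, U)) (g : Γ(X, V)),
      X.presheaf.map (homOfLE inf_le_left).op f + X.presheaf.map (homOfLE inf_le_right).op g = c) :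
    Subsingleton (Coh.HH X F 1) := by
  have hsec : ∀ s : Γ(F, U ⊓ V), ∃ (a : Γ(F, U)) (b : Γ(F, V)),
      res F (inf_le_left : U ⊓ V ≤ U) a + res F (inf_le_right : U ⊓ V ≤ V) b = s := by
    intro s
    have hs : s ∈ Submodule.span Γ(X, U ⊓ V) (Set.range (res F (le_top : U ⊓ V ≤ ⊤))) :=
      (genOn_of_gg hgg hUV).ge trivial
    have key : ∀ c : Γ(X, U ⊓ V), ∃ (a : Γ(F, U)) (b : Γ(F, V)),
        res F (inf_le_left : U ⊓ V ≤ U) a + res F (inf_le_right : U ⊓ V ≤ V) b = c • s := by
      induction hs using Submodule.span_induction with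
      | mem y hy =>
        obtain ⟨t, rfl⟩ := hy
        intro c
        obtain ⟨f, g, rfl⟩ := hr c
        refine ⟨f • res F le_top t, g • res F le_top t, ?_⟩
        rw [res_smul, res_smul, res_res, res_res, add_smul]
      | zero => exact fun c => ⟨0, 0, by simp⟩
      | add y z _ _ hy hz =>
        intro c
        obtain ⟨a, b, hab⟩ := hy c
        obtain ⟨a', b', hab'⟩ := hz c
        refine ⟨a + a', b + b', ?_⟩
        rw [smul_add, ← hab, ← hab', map_add, map_add]
        abel
      | smul d y _ hy =>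
        intro c
        obtain ⟨a, b, hab⟩ := hy (c * d)
        exact ⟨a, b, by rw [smul_smul]; exact hab⟩
    obtain ⟨a, b, hab⟩ := key 1
    exact ⟨a, b, by rwa [one_smul] at hab⟩
  have h := hu_one_sup (Coh.toAb F) U V (fun s => hsec s) (CohQC.isAffineOpen_hu_vanish F hU le_rfl)
    (CohQC.isAffineOpen_hu_vanish F hV le_rfl)
  rw [hcov] at h
  exact (SiteCoh.huTerminalEquiv (Opens.grothendieckTopology X) isTerminalTop (Coh.toAb F) 1).toEquiv.subsingleton

end Groth.Agent.BlowReg
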